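import Cfsg.Agent.Lib.SporRecognition.Cert.Fi23X.LowerT

/-! Generated coset-enumeration certificate: Fi23 over <a, b, c, d, e, f, g, h, i>, 31671 cosets. -/

set_option autoImplicit false
set_option maxRecDepth 20000
set_option linter.all false
set_option Elab.async false

namespace CfsgLib.SporRecognition.Cert.Fi23X

open CfsgLib.SporRecognition.CosetCert

theorem L5eq0_c0 : allPow 31671 (fun u => Nat.beq (L5g0 u) (trace [L4g1, L4g3, L4g1, L4g3, L4g3, L4g5, L4g3] u)) 10 0 = true := by decide +kernel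
theorem L5eq0_c1 : allPow 31671 (fun u => Nat.beq (L5g0 u) (trace [L4g1, L4g3, L4g1, L4g3, L4g3, L4g5, L4g3] u)) 10 1024 = true := by decide +kernel
theorem L5eq0_c2 : allPow 31671 (fun u => Nat.beq (L5g0 u) (trace [L4g1, L4g3, L4g1, L4g3, L4g3, L4g5, L4g3] u)) 10 2048 = true := by decide +kernel
theorem L5eq0_c3 : allPow 31671 (fun u => Nat.beq (L5g0 u) (trace [L4g1, L4g3, L4g1, L4g3, L4g3, L4g5, L4g3] u)) 10 3072 = true := by decide +kernel
theorem L5eq0_c4 : allPow 31671 (fun u => Nat.beq (L5g0 u) (trace [L4g1, L4g3, L4g1, L4g3, L4g3, L4g5, L4g3] u)) 10 4096 = true := by decide +kernel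
theorem L5eq0_c5 : allPow 31671 (fun u => Nat.beq (L5g0 u) (trace [L4g1, L4g3, L4g1, L4g3, L4g3, L4g5, L4g3] u)) 10 5120 = true := by decide +kernel
theorem L5eq0_c6 : allPow 31671 (fun u => Nat.beq (L5g0 u) (trace [L4g1, L4g3, L4g1, L4g3, L4g3, L4g5, L4g3] u)) 10 6144 = true := by decide +kernel
theorem L5eq0_c7 : allPow 31671 (fun u => Nat.beq (L5g0 u) (trace [L4g1, L4g3, L4g1, L4g3, L4g3, L4g5, L4g3] u)) 10 7168 = true := by decide +kernel
theorem L5eq0_c8 : allPow 31671 (fun u => Nat.beq (L5g0 u) (trace [L4g1, L4g3, L4g1, L4g3, L4g3, L4g5, L4g3] u)) 10 8192 = true := by decide +kernel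
theorem L5eq0_c9 : allPow 31671 (fun u => Nat.beq (L5g0 u) (trace [L4g1, L4g3, L4g1, L4g3, L4g3, L4g5, L4g3] u)) 10 9216 = true := by decide +kernel
theorem L5eq0_c10 : allPow 31671 (fun u => Nat.beq (L5g0 u) (trace [L4g1, L4g3, L4g1, L4g3, L4g3, L4g5, L4g3] u)) 10 10240 = true := by decide +kernel
theorem L5eq0_c11 : allPow 31671 (fun u => Nat.beq (L5g0 u) (trace [L4g1, L4g3, L4g1, L4g3, L4g3, L4g5, L4g3] u)) 10 11264 = true := by decide +kernel
theorem L5eq0_c12 : allPow 31671 (fun u => Nat.beq (L5g0 u) (trace [L4g1, L4g3, L4g1, L4g3, L4g3, L4g5, L4g3] u)) 10 12288 = true := by decide +kernel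
theorem L5eq0_c13 : allPow 31671 (fun u => Nat.beq (L5g0 u) (trace [L4g1, L4g3, L4g1, L4g3, L4g3, L4g5, L4g3] u)) 10 13312 = true := by decide +kernel
theorem L5eq0_c14 : allPow 31671 (fun u => Nat.beq (L5g0 u) (trace [L4g1, L4g3, L4g1, L4g3, L4g3, L4g5, L4g3] u)) 10 14336 = true := by decide +kernel
theorem L5eq0_c15 : allPow 31671 (fun u => Nat.beq (L5g0 u) (trace [L4g1, L4g3, L4g1, L4g3, L4g3, L4g5, L4g3] u)) 10 15360 = true := by decide +kernel
theorem L5eq0_c16 : allPow 31671 (fun u => Nat.beq (L5g0 u) (trace [L4g1, L4g3, L4g1, L4g3, L4g3, L4g5, L4g3] u)) 10 16384 = true := by decide +kernel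
theorem L5eq0_c17 : allPow 31671 (fun u => Nat.beq (L5g0 u) (trace [L4g1, L4g3, L4g1, L4g3, L4g3, L4g5, L4g3] u)) 10 17408 = true := by decide +kernel
theorem L5eq0_c18 : allPow 31671 (fun u => Nat.beq (L5g0 u) (trace [L4g1, L4g3, L4g1, L4g3, L4g3, L4g5, L4g3] u)) 10 18432 = true := by decide +kernel
theorem L5eq0_c19 : allPow 31671 (fun u => Nat.beq (L5g0 u) (trace [L4g1, L4g3, L4g1, L4g3, L4g3, L4g5, L4g3] u)) 10 19456 = true := by decide +kernel
theorem L5eq0_c20 : allPow 31671 (fun u => Nat.beq (L5g0 u) (trace [L4g1, L4g3, L4g1, L4g3, L4g3, L4g5, L4g3] u)) 10 20480 = true := by decide +kernel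
theorem L5eq0_c21 : allPow 31671 (fun u => Nat.beq (L5g0 u) (trace [L4g1, L4g3, L4g1, L4g3, L4g3, L4g5, L4g3] u)) 10 21504 = true := by decide +kernel
theorem L5eq0_c22 : allPow 31671 (fun u => Nat.beq (L5g0 u) (trace [L4g1, L4g3, L4g1, L4g3, L4g3, L4g5, L4g3] u)) 10 22528 = true := by decide +kernel
theorem L5eq0_c23 : allPow 31671 (fun u => Nat.beq (L5g0 u) (trace [L4g1, L4g3, L4g1, L4g3, L4g3, L4g5, L4g3] u)) 10 23552 = true := by decide +kernel
theorem L5eq0_c24 : allPow 31671 (fun u => Nat.beq (L5g0 u) (trace [L4g1, L4g3, L4g1, L4g3, L4g3, L4g5, L4g3] u)) 10 24576 = true := by decide +kernel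
theorem L5eq0_c25 : allPow 31671 (fun u => Nat.beq (L5g0 u) (trace [L4g1, L4g3, L4g1, L4g3, L4g3, L4g5, L4g3] u)) 10 25600 = true := by decide +kernel
theorem L5eq0_c26 : allPow 31671 (fun u => Nat.beq (L5g0 u) (trace [L4g1, L4g3, L4g1, L4g3, L4g3, L4g5, L4g3] u)) 10 26624 = true := by decide +kernel
theorem L5eq0_c27 : allPow 31671 (fun u => Nat.beq (L5g0 u) (trace [L4g1, L4g3, L4g1, L4g3, L4g3, L4g5, L4g3] u)) 10 27648 = true := by decide +kernel
theorem L5eq0_c28 : allPow 31671 (fun u => Nat.beq (L5g0 u) (trace [L4g1, L4g3, L4g1, L4g3, L4g3, L4g5, L4g3] u)) 10 28672 = true := by decide +kernel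
theorem L5eq0_c29 : allPow 31671 (fun u => Nat.beq (L5g0 u) (trace [L4g1, L4g3, L4g1, L4g3, L4g3, L4g5, L4g3] u)) 10 29696 = true := by decide +kernel
theorem L5eq0_c30 : allPow 31671 (fun u => Nat.beq (L5g0 u) (trace [L4g1, L4g3, L4g1, L4g3, L4g3, L4g5, L4g3] u)) 10 30720 = true := by decide +kernel
theorem L5eq0 : allBelow 15 31671 (fun u => Nat.beq (L5g0 u) (trace [L4g1, L4g3, L4g1, L4g3, L4g3, L4g5, L4g3] u)) = true :=
  allBelow_of_upto (hi := 31744)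
    (Upto.trans (mid := 15360) (Upto.trans (mid := 7168) (Upto.trans (mid := 3072) (Upto.trans (mid := 1024) ((Upto.of_pow L5eq0_c0 (Nat.le_refl _)) : Upto _ _ 0 (0 + 2 ^ 10))
    (Upto.trans (mid := 2048) ((Upto.of_pow L5eq0_c1 (Nat.le_refl _)) : Upto _ _ 1024 (1024 + 2 ^ 10))
    ((Upto.of_pow L5eq0_c2 (Nat.le_refl _)) : Upto _ _ 2048 (2048 + 2 ^ 10))))
    (Upto.trans (mid := 5120) (Upto.trans (mid := 4096) ((Upto.of_pow L5eq0_c3 (Nat.le_refl _)) : Upto _ _ 3072 (3072 + 2 ^ 10))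
    ((Upto.of_pow L5eq0_c4 (Nat.le_refl _)) : Upto _ _ 4096 (4096 + 2 ^ 10)))
    (Upto.trans (mid := 6144) ((Upto.of_pow L5eq0_c5 (Nat.le_refl _)) : Upto _ _ 5120 (5120 + 2 ^ 10))
    ((Upto.of_pow L5eq0_c6 (Nat.le_refl _)) : Upto _ _ 6144 (6144 + 2 ^ 10)))))
    (Upto.trans (mid := 11264) (Upto.trans (mid := 9216) (Upto.trans (mid := 8192) ((Upto.of_pow L5eq0_c7 (Nat.le_refl _)) : Upto _ _ 7168 (7168 + 2 ^ 10))
    ((Upto.of_pow L5eq0_c8 (Nat.le_refl _)) : Upto _ _ 8192 (8192 + 2 ^ 10)))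
    (Upto.trans (mid := 10240) ((Upto.of_pow L5eq0_c9 (Nat.le_refl _)) : Upto _ _ 9216 (9216 + 2 ^ 10))
    ((Upto.of_pow L5eq0_c10 (Nat.le_refl _)) : Upto _ _ 10240 (10240 + 2 ^ 10))))
    (Upto.trans (mid := 13312) (Upto.trans (mid := 12288) ((Upto.of_pow L5eq0_c11 (Nat.le_refl _)) : Upto _ _ 11264 (11264 + 2 ^ 10))
    ((Upto.of_pow L5eq0_c12 (Nat.le_refl _)) : Upto _ _ 12288 (12288 + 2 ^ 10)))
    (Upto.trans (mid := 14336) ((Upto.of_pow L5eq0_c13 (Nat.le_refl _)) : Upto _ _ 13312 (13312 + 2 ^ 10))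
    ((Upto.of_pow L5eq0_c14 (Nat.le_refl _)) : Upto _ _ 14336 (14336 + 2 ^ 10))))))
    (Upto.trans (mid := 23552) (Upto.trans (mid := 19456) (Upto.trans (mid := 17408) (Upto.trans (mid := 16384) ((Upto.of_pow L5eq0_c15 (Nat.le_refl _)) : Upto _ _ 15360 (15360 + 2 ^ 10))
    ((Upto.of_pow L5eq0_c16 (Nat.le_refl _)) : Upto _ _ 16384 (16384 + 2 ^ 10)))
    (Upto.trans (mid := 18432) ((Upto.of_pow L5eq0_c17 (Nat.le_refl _)) : Upto _ _ 17408 (17408 + 2 ^ 10))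
    ((Upto.of_pow L5eq0_c18 (Nat.le_refl _)) : Upto _ _ 18432 (18432 + 2 ^ 10))))
    (Upto.trans (mid := 21504) (Upto.trans (mid := 20480) ((Upto.of_pow L5eq0_c19 (Nat.le_refl _)) : Upto _ _ 19456 (19456 + 2 ^ 10))
    ((Upto.of_pow L5eq0_c20 (Nat.le_refl _)) : Upto _ _ 20480 (20480 + 2 ^ 10)))
    (Upto.trans (mid := 22528) ((Upto.of_pow L5eq0_c21 (Nat.le_refl _)) : Upto _ _ 21504 (21504 + 2 ^ 10))
    ((Upto.of_pow L5eq0_c22 (Nat.le_refl _)) : Upto _ _ 22528 (22528 + 2 ^ 10)))))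
    (Upto.trans (mid := 27648) (Upto.trans (mid := 25600) (Upto.trans (mid := 24576) ((Upto.of_pow L5eq0_c23 (Nat.le_refl _)) : Upto _ _ 23552 (23552 + 2 ^ 10))
    ((Upto.of_pow L5eq0_c24 (Nat.le_refl _)) : Upto _ _ 24576 (24576 + 2 ^ 10)))
    (Upto.trans (mid := 26624) ((Upto.of_pow L5eq0_c25 (Nat.le_refl _)) : Upto _ _ 25600 (25600 + 2 ^ 10))
    ((Upto.of_pow L5eq0_c26 (Nat.le_refl _)) : Upto _ _ 26624 (26624 + 2 ^ 10))))
    (Upto.trans (mid := 29696) (Upto.trans (mid := 28672) ((Upto.of_pow L5eq0_c27 (Nat.le_refl _)) : Upto _ _ 27648 (27648 + 2 ^ 10))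
    ((Upto.of_pow L5eq0_c28 (Nat.le_refl _)) : Upto _ _ 28672 (28672 + 2 ^ 10)))
    (Upto.trans (mid := 30720) ((Upto.of_pow L5eq0_c29 (Nat.le_refl _)) : Upto _ _ 29696 (29696 + 2 ^ 10))
    ((Upto.of_pow L5eq0_c30 (Nat.le_refl _)) : Upto _ _ 30720 (30720 + 2 ^ 10)))))))
    (by decide) (by decide)

theorem L5eq1_c0 : allPow 31671 (fun u => Nat.beq (L5g1 u) (trace [L4g2, L4g1, L4g3, L4g4, L4g5] u)) 11 0 = true := by decide +kernel
theorem L5eq1_c1 : allPow 31671 (fun u => Nat.beq (L5g1 u) (trace [L4g2, L4g1, L4g3, L4g4, L4g5] u)) 11 2048 = true := by decide +kernel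
theorem L5eq1_c2 : allPow 31671 (fun u => Nat.beq (L5g1 u) (trace [L4g2, L4g1, L4g3, L4g4, L4g5] u)) 11 4096 = true := by decide +kernel
theorem L5eq1_c3 : allPow 31671 (fun u => Nat.beq (L5g1 u) (trace [L4g2, L4g1, L4g3, L4g4, L4g5] u)) 11 6144 = true := by decide +kernel
theorem L5eq1_c4 : allPow 31671 (fun u => Nat.beq (L5g1 u) (trace [L4g2, L4g1, L4g3, L4g4, L4g5] u)) 11 8192 = true := by decide +kernel
theorem L5eq1_c5 : allPow 31671 (fun u => Nat.beq (L5g1 u) (trace [L4g2, L4g1, L4g3, L4g4, L4g5] u)) 11 10240 = true := by decide +kernel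
theorem L5eq1_c6 : allPow 31671 (fun u => Nat.beq (L5g1 u) (trace [L4g2, L4g1, L4g3, L4g4, L4g5] u)) 11 12288 = true := by decide +kernel
theorem L5eq1_c7 : allPow 31671 (fun u => Nat.beq (L5g1 u) (trace [L4g2, L4g1, L4g3, L4g4, L4g5] u)) 11 14336 = true := by decide +kernel
theorem L5eq1_c8 : allPow 31671 (fun u => Nat.beq (L5g1 u) (trace [L4g2, L4g1, L4g3, L4g4, L4g5] u)) 11 16384 = true := by decide +kernel
theorem L5eq1_c9 : allPow 31671 (fun u => Nat.beq (L5g1 u) (trace [L4g2, L4g1, L4g3, L4g4, L4g5] u)) 11 18432 = true := by decide +kernel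
theorem L5eq1_c10 : allPow 31671 (fun u => Nat.beq (L5g1 u) (trace [L4g2, L4g1, L4g3, L4g4, L4g5] u)) 11 20480 = true := by decide +kernel
theorem L5eq1_c11 : allPow 31671 (fun u => Nat.beq (L5g1 u) (trace [L4g2, L4g1, L4g3, L4g4, L4g5] u)) 11 22528 = true := by decide +kernel
theorem L5eq1_c12 : allPow 31671 (fun u => Nat.beq (L5g1 u) (trace [L4g2, L4g1, L4g3, L4g4, L4g5] u)) 11 24576 = true := by decide +kernel
theorem L5eq1_c13 : allPow 31671 (fun u => Nat.beq (L5g1 u) (trace [L4g2, L4g1, L4g3, L4g4, L4g5] u)) 11 26624 = true := by decide +kernel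
theorem L5eq1_c14 : allPow 31671 (fun u => Nat.beq (L5g1 u) (trace [L4g2, L4g1, L4g3, L4g4, L4g5] u)) 11 28672 = true := by decide +kernel
theorem L5eq1_c15 : allPow 31671 (fun u => Nat.beq (L5g1 u) (trace [L4g2, L4g1, L4g3, L4g4, L4g5] u)) 11 30720 = true := by decide +kernel
theorem L5eq1 : allBelow 15 31671 (fun u => Nat.beq (L5g1 u) (trace [L4g2, L4g1, L4g3, L4g4, L4g5] u)) = true :=
  allBelow_of_upto (hi := 32768)
    (Upto.trans (mid := 16384) (Upto.trans (mid := 8192) (Upto.trans (mid := 4096) (Upto.trans (mid := 2048) ((Upto.of_pow L5eq1_c0 (Nat.le_refl _)) : Upto _ _ 0 (0 + 2 ^ 11))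
    ((Upto.of_pow L5eq1_c1 (Nat.le_refl _)) : Upto _ _ 2048 (2048 + 2 ^ 11)))
    (Upto.trans (mid := 6144) ((Upto.of_pow L5eq1_c2 (Nat.le_refl _)) : Upto _ _ 4096 (4096 + 2 ^ 11))
    ((Upto.of_pow L5eq1_c3 (Nat.le_refl _)) : Upto _ _ 6144 (6144 + 2 ^ 11))))
    (Upto.trans (mid := 12288) (Upto.trans (mid := 10240) ((Upto.of_pow L5eq1_c4 (Nat.le_refl _)) : Upto _ _ 8192 (8192 + 2 ^ 11))
    ((Upto.of_pow L5eq1_c5 (Nat.le_refl _)) : Upto _ _ 10240 (10240 + 2 ^ 11)))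
    (Upto.trans (mid := 14336) ((Upto.of_pow L5eq1_c6 (Nat.le_refl _)) : Upto _ _ 12288 (12288 + 2 ^ 11))
    ((Upto.of_pow L5eq1_c7 (Nat.le_refl _)) : Upto _ _ 14336 (14336 + 2 ^ 11)))))
    (Upto.trans (mid := 24576) (Upto.trans (mid := 20480) (Upto.trans (mid := 18432) ((Upto.of_pow L5eq1_c8 (Nat.le_refl _)) : Upto _ _ 16384 (16384 + 2 ^ 11))
    ((Upto.of_pow L5eq1_c9 (Nat.le_refl _)) : Upto _ _ 18432 (18432 + 2 ^ 11)))
    (Upto.trans (mid := 22528) ((Upto.of_pow L5eq1_c10 (Nat.le_refl _)) : Upto _ _ 20480 (20480 + 2 ^ 11))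
    ((Upto.of_pow L5eq1_c11 (Nat.le_refl _)) : Upto _ _ 22528 (22528 + 2 ^ 11))))
    (Upto.trans (mid := 28672) (Upto.trans (mid := 26624) ((Upto.of_pow L5eq1_c12 (Nat.le_refl _)) : Upto _ _ 24576 (24576 + 2 ^ 11))
    ((Upto.of_pow L5eq1_c13 (Nat.le_refl _)) : Upto _ _ 26624 (26624 + 2 ^ 11)))
    (Upto.trans (mid := 30720) ((Upto.of_pow L5eq1_c14 (Nat.le_refl _)) : Upto _ _ 28672 (28672 + 2 ^ 11))
    ((Upto.of_pow L5eq1_c15 (Nat.le_refl _)) : Upto _ _ 30720 (30720 + 2 ^ 11))))))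
    (by decide) (by decide)

theorem L5eq2_c0 : allPow 31671 (fun u => Nat.beq (L5g2 u) (trace [L4g3, L4g4, L4g0, L4g4, L4g0] u)) 11 0 = true := by decide +kernel
theorem L5eq2_c1 : allPow 31671 (fun u => Nat.beq (L5g2 u) (trace [L4g3, L4g4, L4g0, L4g4, L4g0] u)) 11 2048 = true := by decide +kernel
theorem L5eq2_c2 : allPow 31671 (fun u => Nat.beq (L5g2 u) (trace [L4g3, L4g4, L4g0, L4g4, L4g0] u)) 11 4096 = true := by decide +kernel
theorem L5eq2_c3 : allPow 31671 (fun u => Nat.beq (L5g2 u) (trace [L4g3, L4g4, L4g0, L4g4, L4g0] u)) 11 6144 = true := by decide +kernel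
theorem L5eq2_c4 : allPow 31671 (fun u => Nat.beq (L5g2 u) (trace [L4g3, L4g4, L4g0, L4g4, L4g0] u)) 11 8192 = true := by decide +kernel
theorem L5eq2_c5 : allPow 31671 (fun u => Nat.beq (L5g2 u) (trace [L4g3, L4g4, L4g0, L4g4, L4g0] u)) 11 10240 = true := by decide +kernel
theorem L5eq2_c6 : allPow 31671 (fun u => Nat.beq (L5g2 u) (trace [L4g3, L4g4, L4g0, L4g4, L4g0] u)) 11 12288 = true := by decide +kernel
theorem L5eq2_c7 : allPow 31671 (fun u => Nat.beq (L5g2 u) (trace [L4g3, L4g4, L4g0, L4g4, L4g0] u)) 11 14336 = true := by decide +kernel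
theorem L5eq2_c8 : allPow 31671 (fun u => Nat.beq (L5g2 u) (trace [L4g3, L4g4, L4g0, L4g4, L4g0] u)) 11 16384 = true := by decide +kernel
theorem L5eq2_c9 : allPow 31671 (fun u => Nat.beq (L5g2 u) (trace [L4g3, L4g4, L4g0, L4g4, L4g0] u)) 11 18432 = true := by decide +kernel
theorem L5eq2_c10 : allPow 31671 (fun u => Nat.beq (L5g2 u) (trace [L4g3, L4g4, L4g0, L4g4, L4g0] u)) 11 20480 = true := by decide +kernel
theorem L5eq2_c11 : allPow 31671 (fun u => Nat.beq (L5g2 u) (trace [L4g3, L4g4, L4g0, L4g4, L4g0] u)) 11 22528 = true := by decide +kernel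
theorem L5eq2_c12 : allPow 31671 (fun u => Nat.beq (L5g2 u) (trace [L4g3, L4g4, L4g0, L4g4, L4g0] u)) 11 24576 = true := by decide +kernel
theorem L5eq2_c13 : allPow 31671 (fun u => Nat.beq (L5g2 u) (trace [L4g3, L4g4, L4g0, L4g4, L4g0] u)) 11 26624 = true := by decide +kernel
theorem L5eq2_c14 : allPow 31671 (fun u => Nat.beq (L5g2 u) (trace [L4g3, L4g4, L4g0, L4g4, L4g0] u)) 11 28672 = true := by decide +kernel
theorem L5eq2_c15 : allPow 31671 (fun u => Nat.beq (L5g2 u) (trace [L4g3, L4g4, L4g0, L4g4, L4g0] u)) 11 30720 = true := by decide +kernel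
theorem L5eq2 : allBelow 15 31671 (fun u => Nat.beq (L5g2 u) (trace [L4g3, L4g4, L4g0, L4g4, L4g0] u)) = true :=
  allBelow_of_upto (hi := 32768)
    (Upto.trans (mid := 16384) (Upto.trans (mid := 8192) (Upto.trans (mid := 4096) (Upto.trans (mid := 2048) ((Upto.of_pow L5eq2_c0 (Nat.le_refl _)) : Upto _ _ 0 (0 + 2 ^ 11))
    ((Upto.of_pow L5eq2_c1 (Nat.le_refl _)) : Upto _ _ 2048 (2048 + 2 ^ 11)))
    (Upto.trans (mid := 6144) ((Upto.of_pow L5eq2_c2 (Nat.le_refl _)) : Upto _ _ 4096 (4096 + 2 ^ 11))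
    ((Upto.of_pow L5eq2_c3 (Nat.le_refl _)) : Upto _ _ 6144 (6144 + 2 ^ 11))))
    (Upto.trans (mid := 12288) (Upto.trans (mid := 10240) ((Upto.of_pow L5eq2_c4 (Nat.le_refl _)) : Upto _ _ 8192 (8192 + 2 ^ 11))
    ((Upto.of_pow L5eq2_c5 (Nat.le_refl _)) : Upto _ _ 10240 (10240 + 2 ^ 11)))
    (Upto.trans (mid := 14336) ((Upto.of_pow L5eq2_c6 (Nat.le_refl _)) : Upto _ _ 12288 (12288 + 2 ^ 11))
    ((Upto.of_pow L5eq2_c7 (Nat.le_refl _)) : Upto _ _ 14336 (14336 + 2 ^ 11)))))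
    (Upto.trans (mid := 24576) (Upto.trans (mid := 20480) (Upto.trans (mid := 18432) ((Upto.of_pow L5eq2_c8 (Nat.le_refl _)) : Upto _ _ 16384 (16384 + 2 ^ 11))
    ((Upto.of_pow L5eq2_c9 (Nat.le_refl _)) : Upto _ _ 18432 (18432 + 2 ^ 11)))
    (Upto.trans (mid := 22528) ((Upto.of_pow L5eq2_c10 (Nat.le_refl _)) : Upto _ _ 20480 (20480 + 2 ^ 11))
    ((Upto.of_pow L5eq2_c11 (Nat.le_refl _)) : Upto _ _ 22528 (22528 + 2 ^ 11))))
    (Upto.trans (mid := 28672) (Upto.trans (mid := 26624) ((Upto.of_pow L5eq2_c12 (Nat.le_refl _)) : Upto _ _ 24576 (24576 + 2 ^ 11))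
    ((Upto.of_pow L5eq2_c13 (Nat.le_refl _)) : Upto _ _ 26624 (26624 + 2 ^ 11)))
    (Upto.trans (mid := 30720) ((Upto.of_pow L5eq2_c14 (Nat.le_refl _)) : Upto _ _ 28672 (28672 + 2 ^ 11))
    ((Upto.of_pow L5eq2_c15 (Nat.le_refl _)) : Upto _ _ 30720 (30720 + 2 ^ 11))))))
    (by decide) (by decide)

theorem L5inv0_c0 : allPow 31671 (invStep L5g0 L5g3 31671) 12 0 = true := by decide +kernel
theorem L5inv0_c1 : allPow 31671 (invStep L5g0 L5g3 31671) 12 4096 = true := by decide +kernel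
theorem L5inv0_c2 : allPow 31671 (invStep L5g0 L5g3 31671) 12 8192 = true := by decide +kernel
theorem L5inv0_c3 : allPow 31671 (invStep L5g0 L5g3 31671) 12 12288 = true := by decide +kernel
theorem L5inv0_c4 : allPow 31671 (invStep L5g0 L5g3 31671) 12 16384 = true := by decide +kernel
theorem L5inv0_c5 : allPow 31671 (invStep L5g0 L5g3 31671) 12 20480 = true := by decide +kernel
theorem L5inv0_c6 : allPow 31671 (invStep L5g0 L5g3 31671) 12 24576 = true := by decide +kernel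
theorem L5inv0_c7 : allPow 31671 (invStep L5g0 L5g3 31671) 12 28672 = true := by decide +kernel
theorem L5inv0 : allBelow 15 31671 (invStep L5g0 L5g3 31671) = true :=
  allBelow_of_upto (hi := 32768)
    (Upto.trans (mid := 16384) (Upto.trans (mid := 8192) (Upto.trans (mid := 4096) ((Upto.of_pow L5inv0_c0 (Nat.le_refl _)) : Upto _ _ 0 (0 + 2 ^ 12))
    ((Upto.of_pow L5inv0_c1 (Nat.le_refl _)) : Upto _ _ 4096 (4096 + 2 ^ 12)))
    (Upto.trans (mid := 12288) ((Upto.of_pow L5inv0_c2 (Nat.le_refl _)) : Upto _ _ 8192 (8192 + 2 ^ 12))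
    ((Upto.of_pow L5inv0_c3 (Nat.le_refl _)) : Upto _ _ 12288 (12288 + 2 ^ 12))))
    (Upto.trans (mid := 24576) (Upto.trans (mid := 20480) ((Upto.of_pow L5inv0_c4 (Nat.le_refl _)) : Upto _ _ 16384 (16384 + 2 ^ 12))
    ((Upto.of_pow L5inv0_c5 (Nat.le_refl _)) : Upto _ _ 20480 (20480 + 2 ^ 12)))
    (Upto.trans (mid := 28672) ((Upto.of_pow L5inv0_c6 (Nat.le_refl _)) : Upto _ _ 24576 (24576 + 2 ^ 12))
    ((Upto.of_pow L5inv0_c7 (Nat.le_refl _)) : Upto _ _ 28672 (28672 + 2 ^ 12)))))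
    (by decide) (by decide)

theorem L5inv1_c0 : allPow 31671 (invStep L5g1 L5g4 31671) 12 0 = true := by decide +kernel
theorem L5inv1_c1 : allPow 31671 (invStep L5g1 L5g4 31671) 12 4096 = true := by decide +kernel
theorem L5inv1_c2 : allPow 31671 (invStep L5g1 L5g4 31671) 12 8192 = true := by decide +kernel
theorem L5inv1_c3 : allPow 31671 (invStep L5g1 L5g4 31671) 12 12288 = true := by decide +kernel
theorem L5inv1_c4 : allPow 31671 (invStep L5g1 L5g4 31671) 12 16384 = true := by decide +kernel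
theorem L5inv1_c5 : allPow 31671 (invStep L5g1 L5g4 31671) 12 20480 = true := by decide +kernel
theorem L5inv1_c6 : allPow 31671 (invStep L5g1 L5g4 31671) 12 24576 = true := by decide +kernel
theorem L5inv1_c7 : allPow 31671 (invStep L5g1 L5g4 31671) 12 28672 = true := by decide +kernel
theorem L5inv1 : allBelow 15 31671 (invStep L5g1 L5g4 31671) = true :=
  allBelow_of_upto (hi := 32768)
    (Upto.trans (mid := 16384) (Upto.trans (mid := 8192) (Upto.trans (mid := 4096) ((Upto.of_pow L5inv1_c0 (Nat.le_refl _)) : Upto _ _ 0 (0 + 2 ^ 12))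
    ((Upto.of_pow L5inv1_c1 (Nat.le_refl _)) : Upto _ _ 4096 (4096 + 2 ^ 12)))
    (Upto.trans (mid := 12288) ((Upto.of_pow L5inv1_c2 (Nat.le_refl _)) : Upto _ _ 8192 (8192 + 2 ^ 12))
    ((Upto.of_pow L5inv1_c3 (Nat.le_refl _)) : Upto _ _ 12288 (12288 + 2 ^ 12))))
    (Upto.trans (mid := 24576) (Upto.trans (mid := 20480) ((Upto.of_pow L5inv1_c4 (Nat.le_refl _)) : Upto _ _ 16384 (16384 + 2 ^ 12))
    ((Upto.of_pow L5inv1_c5 (Nat.le_refl _)) : Upto _ _ 20480 (20480 + 2 ^ 12)))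
    (Upto.trans (mid := 28672) ((Upto.of_pow L5inv1_c6 (Nat.le_refl _)) : Upto _ _ 24576 (24576 + 2 ^ 12))
    ((Upto.of_pow L5inv1_c7 (Nat.le_refl _)) : Upto _ _ 28672 (28672 + 2 ^ 12)))))
    (by decide) (by decide)

theorem L5inv2_c0 : allPow 31671 (invStep L5g2 L5g5 31671) 12 0 = true := by decide +kernel
theorem L5inv2_c1 : allPow 31671 (invStep L5g2 L5g5 31671) 12 4096 = true := by decide +kernel
theorem L5inv2_c2 : allPow 31671 (invStep L5g2 L5g5 31671) 12 8192 = true := by decide +kernel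
theorem L5inv2_c3 : allPow 31671 (invStep L5g2 L5g5 31671) 12 12288 = true := by decide +kernel
theorem L5inv2_c4 : allPow 31671 (invStep L5g2 L5g5 31671) 12 16384 = true := by decide +kernel
theorem L5inv2_c5 : allPow 31671 (invStep L5g2 L5g5 31671) 12 20480 = true := by decide +kernel
theorem L5inv2_c6 : allPow 31671 (invStep L5g2 L5g5 31671) 12 24576 = true := by decide +kernel
theorem L5inv2_c7 : allPow 31671 (invStep L5g2 L5g5 31671) 12 28672 = true := by decide +kernel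
theorem L5inv2 : allBelow 15 31671 (invStep L5g2 L5g5 31671) = true :=
  allBelow_of_upto (hi := 32768)
    (Upto.trans (mid := 16384) (Upto.trans (mid := 8192) (Upto.trans (mid := 4096) ((Upto.of_pow L5inv2_c0 (Nat.le_refl _)) : Upto _ _ 0 (0 + 2 ^ 12))
    ((Upto.of_pow L5inv2_c1 (Nat.le_refl _)) : Upto _ _ 4096 (4096 + 2 ^ 12)))
    (Upto.trans (mid := 12288) ((Upto.of_pow L5inv2_c2 (Nat.le_refl _)) : Upto _ _ 8192 (8192 + 2 ^ 12))
    ((Upto.of_pow L5inv2_c3 (Nat.le_refl _)) : Upto _ _ 12288 (12288 + 2 ^ 12))))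
    (Upto.trans (mid := 24576) (Upto.trans (mid := 20480) ((Upto.of_pow L5inv2_c4 (Nat.le_refl _)) : Upto _ _ 16384 (16384 + 2 ^ 12))
    ((Upto.of_pow L5inv2_c5 (Nat.le_refl _)) : Upto _ _ 20480 (20480 + 2 ^ 12)))
    (Upto.trans (mid := 28672) ((Upto.of_pow L5inv2_c6 (Nat.le_refl _)) : Upto _ _ 24576 (24576 + 2 ^ 12))
    ((Upto.of_pow L5inv2_c7 (Nat.le_refl _)) : Upto _ _ 28672 (28672 + 2 ^ 12)))))
    (by decide) (by decide)

end CfsgLib.SporRecognition.Cert.Fi23X
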