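import Cfsg.Agent.Lib.SporRecognition.Cert.Fi23X.LowerT

/-! Generated coset-enumeration certificate: Fi23 over <a, b, c, d, e, f, g, h, i>, 31671 cosets. -/

set_option autoImplicit false
set_option maxRecDepth 20000
set_option linter.all false
set_option Elab.async false

namespace CfsgLib.SporRecognition.Cert.Fi23X

open CfsgLib.SporRecognition.CosetCert

theorem L0inv0_c0 : allPow 31671 (invStep L0g0 L0g2 31671) 12 0 = true := by decide +kernel
theorem L0inv0_c1 : allPow 31671 (invStep L0g0 L0g2 31671) 12 4096 = true := by decide +kernel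
theorem L0inv0_c2 : allPow 31671 (invStep L0g0 L0g2 31671) 12 8192 = true := by decide +kernel
theorem L0inv0_c3 : allPow 31671 (invStep L0g0 L0g2 31671) 12 12288 = true := by decide +kernel
theorem L0inv0_c4 : allPow 31671 (invStep L0g0 L0g2 31671) 12 16384 = true := by decide +kernel
theorem L0inv0_c5 : allPow 31671 (invStep L0g0 L0g2 31671) 12 20480 = true := by decide +kernel
theorem L0inv0_c6 : allPow 31671 (invStep L0g0 L0g2 31671) 12 24576 = true := by decide +kernel
theorem L0inv0_c7 : allPow 31671 (invStep L0g0 L0g2 31671) 12 28672 = true := by decide +kernel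
theorem L0inv0 : allBelow 15 31671 (invStep L0g0 L0g2 31671) = true :=
  allBelow_of_upto (hi := 32768)
    (Upto.trans (mid := 16384) (Upto.trans (mid := 8192) (Upto.trans (mid := 4096) ((Upto.of_pow L0inv0_c0 (Nat.le_refl _)) : Upto _ _ 0 (0 + 2 ^ 12))
    ((Upto.of_pow L0inv0_c1 (Nat.le_refl _)) : Upto _ _ 4096 (4096 + 2 ^ 12)))
    (Upto.trans (mid := 12288) ((Upto.of_pow L0inv0_c2 (Nat.le_refl _)) : Upto _ _ 8192 (8192 + 2 ^ 12))
    ((Upto.of_pow L0inv0_c3 (Nat.le_refl _)) : Upto _ _ 12288 (12288 + 2 ^ 12))))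
    (Upto.trans (mid := 24576) (Upto.trans (mid := 20480) ((Upto.of_pow L0inv0_c4 (Nat.le_refl _)) : Upto _ _ 16384 (16384 + 2 ^ 12))
    ((Upto.of_pow L0inv0_c5 (Nat.le_refl _)) : Upto _ _ 20480 (20480 + 2 ^ 12)))
    (Upto.trans (mid := 28672) ((Upto.of_pow L0inv0_c6 (Nat.le_refl _)) : Upto _ _ 24576 (24576 + 2 ^ 12))
    ((Upto.of_pow L0inv0_c7 (Nat.le_refl _)) : Upto _ _ 28672 (28672 + 2 ^ 12)))))
    (by decide) (by decide)

theorem L0inv1_c0 : allPow 31671 (invStep L0g1 L0g3 31671) 12 0 = true := by decide +kernel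
theorem L0inv1_c1 : allPow 31671 (invStep L0g1 L0g3 31671) 12 4096 = true := by decide +kernel
theorem L0inv1_c2 : allPow 31671 (invStep L0g1 L0g3 31671) 12 8192 = true := by decide +kernel
theorem L0inv1_c3 : allPow 31671 (invStep L0g1 L0g3 31671) 12 12288 = true := by decide +kernel
theorem L0inv1_c4 : allPow 31671 (invStep L0g1 L0g3 31671) 12 16384 = true := by decide +kernel
theorem L0inv1_c5 : allPow 31671 (invStep L0g1 L0g3 31671) 12 20480 = true := by decide +kernel
theorem L0inv1_c6 : allPow 31671 (invStep L0g1 L0g3 31671) 12 24576 = true := by decide +kernel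
theorem L0inv1_c7 : allPow 31671 (invStep L0g1 L0g3 31671) 12 28672 = true := by decide +kernel
theorem L0inv1 : allBelow 15 31671 (invStep L0g1 L0g3 31671) = true :=
  allBelow_of_upto (hi := 32768)
    (Upto.trans (mid := 16384) (Upto.trans (mid := 8192) (Upto.trans (mid := 4096) ((Upto.of_pow L0inv1_c0 (Nat.le_refl _)) : Upto _ _ 0 (0 + 2 ^ 12))
    ((Upto.of_pow L0inv1_c1 (Nat.le_refl _)) : Upto _ _ 4096 (4096 + 2 ^ 12)))
    (Upto.trans (mid := 12288) ((Upto.of_pow L0inv1_c2 (Nat.le_refl _)) : Upto _ _ 8192 (8192 + 2 ^ 12))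
    ((Upto.of_pow L0inv1_c3 (Nat.le_refl _)) : Upto _ _ 12288 (12288 + 2 ^ 12))))
    (Upto.trans (mid := 24576) (Upto.trans (mid := 20480) ((Upto.of_pow L0inv1_c4 (Nat.le_refl _)) : Upto _ _ 16384 (16384 + 2 ^ 12))
    ((Upto.of_pow L0inv1_c5 (Nat.le_refl _)) : Upto _ _ 20480 (20480 + 2 ^ 12)))
    (Upto.trans (mid := 28672) ((Upto.of_pow L0inv1_c6 (Nat.le_refl _)) : Upto _ _ 24576 (24576 + 2 ^ 12))
    ((Upto.of_pow L0inv1_c7 (Nat.le_refl _)) : Upto _ _ 28672 (28672 + 2 ^ 12)))))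
    (by decide) (by decide)

end CfsgLib.SporRecognition.Cert.Fi23X
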