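import Cfsg.Agent.Lib.SporRecognition.Cert.Fi23X.Tables

/-! Generated coset-enumeration certificate: Fi23 over <a, b, c, d, e, f, g, h, i>, 31671 cosets. -/

set_option autoImplicit false
set_option maxRecDepth 20000
set_option linter.all false
set_option Elab.async false

namespace CfsgLib.SporRecognition.Cert.Fi23X

open CfsgLib.SporRecognition.CosetCert

theorem inv_T1_T1_c0 : allPow 31671 (invStep T1 T1 31671) 12 0 = true := by decide +kernel
theorem inv_T1_T1_c1 : allPow 31671 (invStep T1 T1 31671) 12 4096 = true := by decide +kernel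
theorem inv_T1_T1_c2 : allPow 31671 (invStep T1 T1 31671) 12 8192 = true := by decide +kernel
theorem inv_T1_T1_c3 : allPow 31671 (invStep T1 T1 31671) 12 12288 = true := by decide +kernel
theorem inv_T1_T1_c4 : allPow 31671 (invStep T1 T1 31671) 12 16384 = true := by decide +kernel
theorem inv_T1_T1_c5 : allPow 31671 (invStep T1 T1 31671) 12 20480 = true := by decide +kernel
theorem inv_T1_T1_c6 : allPow 31671 (invStep T1 T1 31671) 12 24576 = true := by decide +kernel
theorem inv_T1_T1_c7 : allPow 31671 (invStep T1 T1 31671) 12 28672 = true := by decide +kernel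
theorem inv_T1_T1 : allBelow 15 31671 (invStep T1 T1 31671) = true :=
  allBelow_of_upto (hi := 32768)
    (Upto.trans (mid := 16384) (Upto.trans (mid := 8192) (Upto.trans (mid := 4096) ((Upto.of_pow inv_T1_T1_c0 (Nat.le_refl _)) : Upto _ _ 0 (0 + 2 ^ 12))
    ((Upto.of_pow inv_T1_T1_c1 (Nat.le_refl _)) : Upto _ _ 4096 (4096 + 2 ^ 12)))
    (Upto.trans (mid := 12288) ((Upto.of_pow inv_T1_T1_c2 (Nat.le_refl _)) : Upto _ _ 8192 (8192 + 2 ^ 12))
    ((Upto.of_pow inv_T1_T1_c3 (Nat.le_refl _)) : Upto _ _ 12288 (12288 + 2 ^ 12))))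
    (Upto.trans (mid := 24576) (Upto.trans (mid := 20480) ((Upto.of_pow inv_T1_T1_c4 (Nat.le_refl _)) : Upto _ _ 16384 (16384 + 2 ^ 12))
    ((Upto.of_pow inv_T1_T1_c5 (Nat.le_refl _)) : Upto _ _ 20480 (20480 + 2 ^ 12)))
    (Upto.trans (mid := 28672) ((Upto.of_pow inv_T1_T1_c6 (Nat.le_refl _)) : Upto _ _ 24576 (24576 + 2 ^ 12))
    ((Upto.of_pow inv_T1_T1_c7 (Nat.le_refl _)) : Upto _ _ 28672 (28672 + 2 ^ 12)))))
    (by decide) (by decide)

theorem inv_T2_T2_c0 : allPow 31671 (invStep T2 T2 31671) 12 0 = true := by decide +kernel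
theorem inv_T2_T2_c1 : allPow 31671 (invStep T2 T2 31671) 12 4096 = true := by decide +kernel
theorem inv_T2_T2_c2 : allPow 31671 (invStep T2 T2 31671) 12 8192 = true := by decide +kernel
theorem inv_T2_T2_c3 : allPow 31671 (invStep T2 T2 31671) 12 12288 = true := by decide +kernel
theorem inv_T2_T2_c4 : allPow 31671 (invStep T2 T2 31671) 12 16384 = true := by decide +kernel
theorem inv_T2_T2_c5 : allPow 31671 (invStep T2 T2 31671) 12 20480 = true := by decide +kernel
theorem inv_T2_T2_c6 : allPow 31671 (invStep T2 T2 31671) 12 24576 = true := by decide +kernel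
theorem inv_T2_T2_c7 : allPow 31671 (invStep T2 T2 31671) 12 28672 = true := by decide +kernel
theorem inv_T2_T2 : allBelow 15 31671 (invStep T2 T2 31671) = true :=
  allBelow_of_upto (hi := 32768)
    (Upto.trans (mid := 16384) (Upto.trans (mid := 8192) (Upto.trans (mid := 4096) ((Upto.of_pow inv_T2_T2_c0 (Nat.le_refl _)) : Upto _ _ 0 (0 + 2 ^ 12))
    ((Upto.of_pow inv_T2_T2_c1 (Nat.le_refl _)) : Upto _ _ 4096 (4096 + 2 ^ 12)))
    (Upto.trans (mid := 12288) ((Upto.of_pow inv_T2_T2_c2 (Nat.le_refl _)) : Upto _ _ 8192 (8192 + 2 ^ 12))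
    ((Upto.of_pow inv_T2_T2_c3 (Nat.le_refl _)) : Upto _ _ 12288 (12288 + 2 ^ 12))))
    (Upto.trans (mid := 24576) (Upto.trans (mid := 20480) ((Upto.of_pow inv_T2_T2_c4 (Nat.le_refl _)) : Upto _ _ 16384 (16384 + 2 ^ 12))
    ((Upto.of_pow inv_T2_T2_c5 (Nat.le_refl _)) : Upto _ _ 20480 (20480 + 2 ^ 12)))
    (Upto.trans (mid := 28672) ((Upto.of_pow inv_T2_T2_c6 (Nat.le_refl _)) : Upto _ _ 24576 (24576 + 2 ^ 12))
    ((Upto.of_pow inv_T2_T2_c7 (Nat.le_refl _)) : Upto _ _ 28672 (28672 + 2 ^ 12)))))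
    (by decide) (by decide)

theorem inv_T3_T3_c0 : allPow 31671 (invStep T3 T3 31671) 12 0 = true := by decide +kernel
theorem inv_T3_T3_c1 : allPow 31671 (invStep T3 T3 31671) 12 4096 = true := by decide +kernel
theorem inv_T3_T3_c2 : allPow 31671 (invStep T3 T3 31671) 12 8192 = true := by decide +kernel
theorem inv_T3_T3_c3 : allPow 31671 (invStep T3 T3 31671) 12 12288 = true := by decide +kernel
theorem inv_T3_T3_c4 : allPow 31671 (invStep T3 T3 31671) 12 16384 = true := by decide +kernel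
theorem inv_T3_T3_c5 : allPow 31671 (invStep T3 T3 31671) 12 20480 = true := by decide +kernel
theorem inv_T3_T3_c6 : allPow 31671 (invStep T3 T3 31671) 12 24576 = true := by decide +kernel
theorem inv_T3_T3_c7 : allPow 31671 (invStep T3 T3 31671) 12 28672 = true := by decide +kernel
theorem inv_T3_T3 : allBelow 15 31671 (invStep T3 T3 31671) = true :=
  allBelow_of_upto (hi := 32768)
    (Upto.trans (mid := 16384) (Upto.trans (mid := 8192) (Upto.trans (mid := 4096) ((Upto.of_pow inv_T3_T3_c0 (Nat.le_refl _)) : Upto _ _ 0 (0 + 2 ^ 12))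
    ((Upto.of_pow inv_T3_T3_c1 (Nat.le_refl _)) : Upto _ _ 4096 (4096 + 2 ^ 12)))
    (Upto.trans (mid := 12288) ((Upto.of_pow inv_T3_T3_c2 (Nat.le_refl _)) : Upto _ _ 8192 (8192 + 2 ^ 12))
    ((Upto.of_pow inv_T3_T3_c3 (Nat.le_refl _)) : Upto _ _ 12288 (12288 + 2 ^ 12))))
    (Upto.trans (mid := 24576) (Upto.trans (mid := 20480) ((Upto.of_pow inv_T3_T3_c4 (Nat.le_refl _)) : Upto _ _ 16384 (16384 + 2 ^ 12))
    ((Upto.of_pow inv_T3_T3_c5 (Nat.le_refl _)) : Upto _ _ 20480 (20480 + 2 ^ 12)))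
    (Upto.trans (mid := 28672) ((Upto.of_pow inv_T3_T3_c6 (Nat.le_refl _)) : Upto _ _ 24576 (24576 + 2 ^ 12))
    ((Upto.of_pow inv_T3_T3_c7 (Nat.le_refl _)) : Upto _ _ 28672 (28672 + 2 ^ 12)))))
    (by decide) (by decide)

theorem inv_T4_T4_c0 : allPow 31671 (invStep T4 T4 31671) 12 0 = true := by decide +kernel
theorem inv_T4_T4_c1 : allPow 31671 (invStep T4 T4 31671) 12 4096 = true := by decide +kernel
theorem inv_T4_T4_c2 : allPow 31671 (invStep T4 T4 31671) 12 8192 = true := by decide +kernel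
theorem inv_T4_T4_c3 : allPow 31671 (invStep T4 T4 31671) 12 12288 = true := by decide +kernel
theorem inv_T4_T4_c4 : allPow 31671 (invStep T4 T4 31671) 12 16384 = true := by decide +kernel
theorem inv_T4_T4_c5 : allPow 31671 (invStep T4 T4 31671) 12 20480 = true := by decide +kernel
theorem inv_T4_T4_c6 : allPow 31671 (invStep T4 T4 31671) 12 24576 = true := by decide +kernel
theorem inv_T4_T4_c7 : allPow 31671 (invStep T4 T4 31671) 12 28672 = true := by decide +kernel
theorem inv_T4_T4 : allBelow 15 31671 (invStep T4 T4 31671) = true :=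
  allBelow_of_upto (hi := 32768)
    (Upto.trans (mid := 16384) (Upto.trans (mid := 8192) (Upto.trans (mid := 4096) ((Upto.of_pow inv_T4_T4_c0 (Nat.le_refl _)) : Upto _ _ 0 (0 + 2 ^ 12))
    ((Upto.of_pow inv_T4_T4_c1 (Nat.le_refl _)) : Upto _ _ 4096 (4096 + 2 ^ 12)))
    (Upto.trans (mid := 12288) ((Upto.of_pow inv_T4_T4_c2 (Nat.le_refl _)) : Upto _ _ 8192 (8192 + 2 ^ 12))
    ((Upto.of_pow inv_T4_T4_c3 (Nat.le_refl _)) : Upto _ _ 12288 (12288 + 2 ^ 12))))
    (Upto.trans (mid := 24576) (Upto.trans (mid := 20480) ((Upto.of_pow inv_T4_T4_c4 (Nat.le_refl _)) : Upto _ _ 16384 (16384 + 2 ^ 12))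
    ((Upto.of_pow inv_T4_T4_c5 (Nat.le_refl _)) : Upto _ _ 20480 (20480 + 2 ^ 12)))
    (Upto.trans (mid := 28672) ((Upto.of_pow inv_T4_T4_c6 (Nat.le_refl _)) : Upto _ _ 24576 (24576 + 2 ^ 12))
    ((Upto.of_pow inv_T4_T4_c7 (Nat.le_refl _)) : Upto _ _ 28672 (28672 + 2 ^ 12)))))
    (by decide) (by decide)

theorem inv_T5_T5_c0 : allPow 31671 (invStep T5 T5 31671) 12 0 = true := by decide +kernel
theorem inv_T5_T5_c1 : allPow 31671 (invStep T5 T5 31671) 12 4096 = true := by decide +kernel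
theorem inv_T5_T5_c2 : allPow 31671 (invStep T5 T5 31671) 12 8192 = true := by decide +kernel
theorem inv_T5_T5_c3 : allPow 31671 (invStep T5 T5 31671) 12 12288 = true := by decide +kernel
theorem inv_T5_T5_c4 : allPow 31671 (invStep T5 T5 31671) 12 16384 = true := by decide +kernel
theorem inv_T5_T5_c5 : allPow 31671 (invStep T5 T5 31671) 12 20480 = true := by decide +kernel
theorem inv_T5_T5_c6 : allPow 31671 (invStep T5 T5 31671) 12 24576 = true := by decide +kernel
theorem inv_T5_T5_c7 : allPow 31671 (invStep T5 T5 31671) 12 28672 = true := by decide +kernel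
theorem inv_T5_T5 : allBelow 15 31671 (invStep T5 T5 31671) = true :=
  allBelow_of_upto (hi := 32768)
    (Upto.trans (mid := 16384) (Upto.trans (mid := 8192) (Upto.trans (mid := 4096) ((Upto.of_pow inv_T5_T5_c0 (Nat.le_refl _)) : Upto _ _ 0 (0 + 2 ^ 12))
    ((Upto.of_pow inv_T5_T5_c1 (Nat.le_refl _)) : Upto _ _ 4096 (4096 + 2 ^ 12)))
    (Upto.trans (mid := 12288) ((Upto.of_pow inv_T5_T5_c2 (Nat.le_refl _)) : Upto _ _ 8192 (8192 + 2 ^ 12))
    ((Upto.of_pow inv_T5_T5_c3 (Nat.le_refl _)) : Upto _ _ 12288 (12288 + 2 ^ 12))))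
    (Upto.trans (mid := 24576) (Upto.trans (mid := 20480) ((Upto.of_pow inv_T5_T5_c4 (Nat.le_refl _)) : Upto _ _ 16384 (16384 + 2 ^ 12))
    ((Upto.of_pow inv_T5_T5_c5 (Nat.le_refl _)) : Upto _ _ 20480 (20480 + 2 ^ 12)))
    (Upto.trans (mid := 28672) ((Upto.of_pow inv_T5_T5_c6 (Nat.le_refl _)) : Upto _ _ 24576 (24576 + 2 ^ 12))
    ((Upto.of_pow inv_T5_T5_c7 (Nat.le_refl _)) : Upto _ _ 28672 (28672 + 2 ^ 12)))))
    (by decide) (by decide)

theorem inv_T6_T6_c0 : allPow 31671 (invStep T6 T6 31671) 12 0 = true := by decide +kernel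
theorem inv_T6_T6_c1 : allPow 31671 (invStep T6 T6 31671) 12 4096 = true := by decide +kernel
theorem inv_T6_T6_c2 : allPow 31671 (invStep T6 T6 31671) 12 8192 = true := by decide +kernel
theorem inv_T6_T6_c3 : allPow 31671 (invStep T6 T6 31671) 12 12288 = true := by decide +kernel
theorem inv_T6_T6_c4 : allPow 31671 (invStep T6 T6 31671) 12 16384 = true := by decide +kernel
theorem inv_T6_T6_c5 : allPow 31671 (invStep T6 T6 31671) 12 20480 = true := by decide +kernel
theorem inv_T6_T6_c6 : allPow 31671 (invStep T6 T6 31671) 12 24576 = true := by decide +kernel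
theorem inv_T6_T6_c7 : allPow 31671 (invStep T6 T6 31671) 12 28672 = true := by decide +kernel
theorem inv_T6_T6 : allBelow 15 31671 (invStep T6 T6 31671) = true :=
  allBelow_of_upto (hi := 32768)
    (Upto.trans (mid := 16384) (Upto.trans (mid := 8192) (Upto.trans (mid := 4096) ((Upto.of_pow inv_T6_T6_c0 (Nat.le_refl _)) : Upto _ _ 0 (0 + 2 ^ 12))
    ((Upto.of_pow inv_T6_T6_c1 (Nat.le_refl _)) : Upto _ _ 4096 (4096 + 2 ^ 12)))
    (Upto.trans (mid := 12288) ((Upto.of_pow inv_T6_T6_c2 (Nat.le_refl _)) : Upto _ _ 8192 (8192 + 2 ^ 12))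
    ((Upto.of_pow inv_T6_T6_c3 (Nat.le_refl _)) : Upto _ _ 12288 (12288 + 2 ^ 12))))
    (Upto.trans (mid := 24576) (Upto.trans (mid := 20480) ((Upto.of_pow inv_T6_T6_c4 (Nat.le_refl _)) : Upto _ _ 16384 (16384 + 2 ^ 12))
    ((Upto.of_pow inv_T6_T6_c5 (Nat.le_refl _)) : Upto _ _ 20480 (20480 + 2 ^ 12)))
    (Upto.trans (mid := 28672) ((Upto.of_pow inv_T6_T6_c6 (Nat.le_refl _)) : Upto _ _ 24576 (24576 + 2 ^ 12))
    ((Upto.of_pow inv_T6_T6_c7 (Nat.le_refl _)) : Upto _ _ 28672 (28672 + 2 ^ 12)))))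
    (by decide) (by decide)

theorem inv_T7_T7_c0 : allPow 31671 (invStep T7 T7 31671) 12 0 = true := by decide +kernel
theorem inv_T7_T7_c1 : allPow 31671 (invStep T7 T7 31671) 12 4096 = true := by decide +kernel
theorem inv_T7_T7_c2 : allPow 31671 (invStep T7 T7 31671) 12 8192 = true := by decide +kernel
theorem inv_T7_T7_c3 : allPow 31671 (invStep T7 T7 31671) 12 12288 = true := by decide +kernel
theorem inv_T7_T7_c4 : allPow 31671 (invStep T7 T7 31671) 12 16384 = true := by decide +kernel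
theorem inv_T7_T7_c5 : allPow 31671 (invStep T7 T7 31671) 12 20480 = true := by decide +kernel
theorem inv_T7_T7_c6 : allPow 31671 (invStep T7 T7 31671) 12 24576 = true := by decide +kernel
theorem inv_T7_T7_c7 : allPow 31671 (invStep T7 T7 31671) 12 28672 = true := by decide +kernel
theorem inv_T7_T7 : allBelow 15 31671 (invStep T7 T7 31671) = true :=
  allBelow_of_upto (hi := 32768)
    (Upto.trans (mid := 16384) (Upto.trans (mid := 8192) (Upto.trans (mid := 4096) ((Upto.of_pow inv_T7_T7_c0 (Nat.le_refl _)) : Upto _ _ 0 (0 + 2 ^ 12))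
    ((Upto.of_pow inv_T7_T7_c1 (Nat.le_refl _)) : Upto _ _ 4096 (4096 + 2 ^ 12)))
    (Upto.trans (mid := 12288) ((Upto.of_pow inv_T7_T7_c2 (Nat.le_refl _)) : Upto _ _ 8192 (8192 + 2 ^ 12))
    ((Upto.of_pow inv_T7_T7_c3 (Nat.le_refl _)) : Upto _ _ 12288 (12288 + 2 ^ 12))))
    (Upto.trans (mid := 24576) (Upto.trans (mid := 20480) ((Upto.of_pow inv_T7_T7_c4 (Nat.le_refl _)) : Upto _ _ 16384 (16384 + 2 ^ 12))
    ((Upto.of_pow inv_T7_T7_c5 (Nat.le_refl _)) : Upto _ _ 20480 (20480 + 2 ^ 12)))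
    (Upto.trans (mid := 28672) ((Upto.of_pow inv_T7_T7_c6 (Nat.le_refl _)) : Upto _ _ 24576 (24576 + 2 ^ 12))
    ((Upto.of_pow inv_T7_T7_c7 (Nat.le_refl _)) : Upto _ _ 28672 (28672 + 2 ^ 12)))))
    (by decide) (by decide)

theorem inv_T8_T8_c0 : allPow 31671 (invStep T8 T8 31671) 12 0 = true := by decide +kernel
theorem inv_T8_T8_c1 : allPow 31671 (invStep T8 T8 31671) 12 4096 = true := by decide +kernel
theorem inv_T8_T8_c2 : allPow 31671 (invStep T8 T8 31671) 12 8192 = true := by decide +kernel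
theorem inv_T8_T8_c3 : allPow 31671 (invStep T8 T8 31671) 12 12288 = true := by decide +kernel
theorem inv_T8_T8_c4 : allPow 31671 (invStep T8 T8 31671) 12 16384 = true := by decide +kernel
theorem inv_T8_T8_c5 : allPow 31671 (invStep T8 T8 31671) 12 20480 = true := by decide +kernel
theorem inv_T8_T8_c6 : allPow 31671 (invStep T8 T8 31671) 12 24576 = true := by decide +kernel
theorem inv_T8_T8_c7 : allPow 31671 (invStep T8 T8 31671) 12 28672 = true := by decide +kernel
theorem inv_T8_T8 : allBelow 15 31671 (invStep T8 T8 31671) = true :=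
  allBelow_of_upto (hi := 32768)
    (Upto.trans (mid := 16384) (Upto.trans (mid := 8192) (Upto.trans (mid := 4096) ((Upto.of_pow inv_T8_T8_c0 (Nat.le_refl _)) : Upto _ _ 0 (0 + 2 ^ 12))
    ((Upto.of_pow inv_T8_T8_c1 (Nat.le_refl _)) : Upto _ _ 4096 (4096 + 2 ^ 12)))
    (Upto.trans (mid := 12288) ((Upto.of_pow inv_T8_T8_c2 (Nat.le_refl _)) : Upto _ _ 8192 (8192 + 2 ^ 12))
    ((Upto.of_pow inv_T8_T8_c3 (Nat.le_refl _)) : Upto _ _ 12288 (12288 + 2 ^ 12))))
    (Upto.trans (mid := 24576) (Upto.trans (mid := 20480) ((Upto.of_pow inv_T8_T8_c4 (Nat.le_refl _)) : Upto _ _ 16384 (16384 + 2 ^ 12))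
    ((Upto.of_pow inv_T8_T8_c5 (Nat.le_refl _)) : Upto _ _ 20480 (20480 + 2 ^ 12)))
    (Upto.trans (mid := 28672) ((Upto.of_pow inv_T8_T8_c6 (Nat.le_refl _)) : Upto _ _ 24576 (24576 + 2 ^ 12))
    ((Upto.of_pow inv_T8_T8_c7 (Nat.le_refl _)) : Upto _ _ 28672 (28672 + 2 ^ 12)))))
    (by decide) (by decide)

theorem inv_T9_T9_c0 : allPow 31671 (invStep T9 T9 31671) 12 0 = true := by decide +kernel
theorem inv_T9_T9_c1 : allPow 31671 (invStep T9 T9 31671) 12 4096 = true := by decide +kernel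
theorem inv_T9_T9_c2 : allPow 31671 (invStep T9 T9 31671) 12 8192 = true := by decide +kernel
theorem inv_T9_T9_c3 : allPow 31671 (invStep T9 T9 31671) 12 12288 = true := by decide +kernel
theorem inv_T9_T9_c4 : allPow 31671 (invStep T9 T9 31671) 12 16384 = true := by decide +kernel
theorem inv_T9_T9_c5 : allPow 31671 (invStep T9 T9 31671) 12 20480 = true := by decide +kernel
theorem inv_T9_T9_c6 : allPow 31671 (invStep T9 T9 31671) 12 24576 = true := by decide +kernel
theorem inv_T9_T9_c7 : allPow 31671 (invStep T9 T9 31671) 12 28672 = true := by decide +kernel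
theorem inv_T9_T9 : allBelow 15 31671 (invStep T9 T9 31671) = true :=
  allBelow_of_upto (hi := 32768)
    (Upto.trans (mid := 16384) (Upto.trans (mid := 8192) (Upto.trans (mid := 4096) ((Upto.of_pow inv_T9_T9_c0 (Nat.le_refl _)) : Upto _ _ 0 (0 + 2 ^ 12))
    ((Upto.of_pow inv_T9_T9_c1 (Nat.le_refl _)) : Upto _ _ 4096 (4096 + 2 ^ 12)))
    (Upto.trans (mid := 12288) ((Upto.of_pow inv_T9_T9_c2 (Nat.le_refl _)) : Upto _ _ 8192 (8192 + 2 ^ 12))
    ((Upto.of_pow inv_T9_T9_c3 (Nat.le_refl _)) : Upto _ _ 12288 (12288 + 2 ^ 12))))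
    (Upto.trans (mid := 24576) (Upto.trans (mid := 20480) ((Upto.of_pow inv_T9_T9_c4 (Nat.le_refl _)) : Upto _ _ 16384 (16384 + 2 ^ 12))
    ((Upto.of_pow inv_T9_T9_c5 (Nat.le_refl _)) : Upto _ _ 20480 (20480 + 2 ^ 12)))
    (Upto.trans (mid := 28672) ((Upto.of_pow inv_T9_T9_c6 (Nat.le_refl _)) : Upto _ _ 24576 (24576 + 2 ^ 12))
    ((Upto.of_pow inv_T9_T9_c7 (Nat.le_refl _)) : Upto _ _ 28672 (28672 + 2 ^ 12)))))
    (by decide) (by decide)

theorem inv_T10_T10_c0 : allPow 31671 (invStep T10 T10 31671) 12 0 = true := by decide +kernel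
theorem inv_T10_T10_c1 : allPow 31671 (invStep T10 T10 31671) 12 4096 = true := by decide +kernel
theorem inv_T10_T10_c2 : allPow 31671 (invStep T10 T10 31671) 12 8192 = true := by decide +kernel
theorem inv_T10_T10_c3 : allPow 31671 (invStep T10 T10 31671) 12 12288 = true := by decide +kernel
theorem inv_T10_T10_c4 : allPow 31671 (invStep T10 T10 31671) 12 16384 = true := by decide +kernel
theorem inv_T10_T10_c5 : allPow 31671 (invStep T10 T10 31671) 12 20480 = true := by decide +kernel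
theorem inv_T10_T10_c6 : allPow 31671 (invStep T10 T10 31671) 12 24576 = true := by decide +kernel
theorem inv_T10_T10_c7 : allPow 31671 (invStep T10 T10 31671) 12 28672 = true := by decide +kernel
theorem inv_T10_T10 : allBelow 15 31671 (invStep T10 T10 31671) = true :=
  allBelow_of_upto (hi := 32768)
    (Upto.trans (mid := 16384) (Upto.trans (mid := 8192) (Upto.trans (mid := 4096) ((Upto.of_pow inv_T10_T10_c0 (Nat.le_refl _)) : Upto _ _ 0 (0 + 2 ^ 12))
    ((Upto.of_pow inv_T10_T10_c1 (Nat.le_refl _)) : Upto _ _ 4096 (4096 + 2 ^ 12)))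
    (Upto.trans (mid := 12288) ((Upto.of_pow inv_T10_T10_c2 (Nat.le_refl _)) : Upto _ _ 8192 (8192 + 2 ^ 12))
    ((Upto.of_pow inv_T10_T10_c3 (Nat.le_refl _)) : Upto _ _ 12288 (12288 + 2 ^ 12))))
    (Upto.trans (mid := 24576) (Upto.trans (mid := 20480) ((Upto.of_pow inv_T10_T10_c4 (Nat.le_refl _)) : Upto _ _ 16384 (16384 + 2 ^ 12))
    ((Upto.of_pow inv_T10_T10_c5 (Nat.le_refl _)) : Upto _ _ 20480 (20480 + 2 ^ 12)))
    (Upto.trans (mid := 28672) ((Upto.of_pow inv_T10_T10_c6 (Nat.le_refl _)) : Upto _ _ 24576 (24576 + 2 ^ 12))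
    ((Upto.of_pow inv_T10_T10_c7 (Nat.le_refl _)) : Upto _ _ 28672 (28672 + 2 ^ 12)))))
    (by decide) (by decide)

theorem tablesOK : TablesOK tabs 31671 := by
  refine tablesOK_of_checks (d := 15) fun a b => ?_
  cases a <;> cases b
  · exact inv_T1_T1
  · exact inv_T1_T1
  · exact inv_T2_T2
  · exact inv_T2_T2
  · exact inv_T3_T3
  · exact inv_T3_T3
  · exact inv_T4_T4
  · exact inv_T4_T4
  · exact inv_T5_T5
  · exact inv_T5_T5
  · exact inv_T6_T6
  · exact inv_T6_T6
  · exact inv_T7_T7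
  · exact inv_T7_T7
  · exact inv_T8_T8
  · exact inv_T8_T8
  · exact inv_T9_T9
  · exact inv_T9_T9
  · exact inv_T10_T10
  · exact inv_T10_T10

end CfsgLib.SporRecognition.Cert.Fi23X
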