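import Cfsg.Agent.Lib.SporRecognition.Cert.Fi23X.PermBase

/-! Generated coset-enumeration certificate: Fi23 over <a, b, c, d, e, f, g, h, i>, 31671 cosets. -/

set_option autoImplicit false
set_option maxRecDepth 20000
set_option linter.all false
set_option Elab.async false

namespace CfsgLib.SporRecognition.Cert.Fi23X

open CfsgLib.SporRecognition.CosetCert

theorem relChk30_c0 : allPow 31671 (fixStep [T7, T4, T7, T4]) 11 0 = true := by decide +kernel
theorem relChk30_c1 : allPow 31671 (fixStep [T7, T4, T7, T4]) 11 2048 = true := by decide +kernel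
theorem relChk30_c2 : allPow 31671 (fixStep [T7, T4, T7, T4]) 11 4096 = true := by decide +kernel
theorem relChk30_c3 : allPow 31671 (fixStep [T7, T4, T7, T4]) 11 6144 = true := by decide +kernel
theorem relChk30_c4 : allPow 31671 (fixStep [T7, T4, T7, T4]) 11 8192 = true := by decide +kernel
theorem relChk30_c5 : allPow 31671 (fixStep [T7, T4, T7, T4]) 11 10240 = true := by decide +kernel
theorem relChk30_c6 : allPow 31671 (fixStep [T7, T4, T7, T4]) 11 12288 = true := by decide +kernel
theorem relChk30_c7 : allPow 31671 (fixStep [T7, T4, T7, T4]) 11 14336 = true := by decide +kernel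
theorem relChk30_c8 : allPow 31671 (fixStep [T7, T4, T7, T4]) 11 16384 = true := by decide +kernel
theorem relChk30_c9 : allPow 31671 (fixStep [T7, T4, T7, T4]) 11 18432 = true := by decide +kernel
theorem relChk30_c10 : allPow 31671 (fixStep [T7, T4, T7, T4]) 11 20480 = true := by decide +kernel
theorem relChk30_c11 : allPow 31671 (fixStep [T7, T4, T7, T4]) 11 22528 = true := by decide +kernel
theorem relChk30_c12 : allPow 31671 (fixStep [T7, T4, T7, T4]) 11 24576 = true := by decide +kernel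
theorem relChk30_c13 : allPow 31671 (fixStep [T7, T4, T7, T4]) 11 26624 = true := by decide +kernel
theorem relChk30_c14 : allPow 31671 (fixStep [T7, T4, T7, T4]) 11 28672 = true := by decide +kernel
theorem relChk30_c15 : allPow 31671 (fixStep [T7, T4, T7, T4]) 11 30720 = true := by decide +kernel
theorem relChk30 : allBelow 15 31671 (fixStep [T7, T4, T7, T4]) = true :=
  allBelow_of_upto (hi := 32768)
    (Upto.trans (mid := 16384) (Upto.trans (mid := 8192) (Upto.trans (mid := 4096) (Upto.trans (mid := 2048) ((Upto.of_pow relChk30_c0 (Nat.le_refl _)) : Upto _ _ 0 (0 + 2 ^ 11))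
    ((Upto.of_pow relChk30_c1 (Nat.le_refl _)) : Upto _ _ 2048 (2048 + 2 ^ 11)))
    (Upto.trans (mid := 6144) ((Upto.of_pow relChk30_c2 (Nat.le_refl _)) : Upto _ _ 4096 (4096 + 2 ^ 11))
    ((Upto.of_pow relChk30_c3 (Nat.le_refl _)) : Upto _ _ 6144 (6144 + 2 ^ 11))))
    (Upto.trans (mid := 12288) (Upto.trans (mid := 10240) ((Upto.of_pow relChk30_c4 (Nat.le_refl _)) : Upto _ _ 8192 (8192 + 2 ^ 11))
    ((Upto.of_pow relChk30_c5 (Nat.le_refl _)) : Upto _ _ 10240 (10240 + 2 ^ 11)))
    (Upto.trans (mid := 14336) ((Upto.of_pow relChk30_c6 (Nat.le_refl _)) : Upto _ _ 12288 (12288 + 2 ^ 11))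
    ((Upto.of_pow relChk30_c7 (Nat.le_refl _)) : Upto _ _ 14336 (14336 + 2 ^ 11)))))
    (Upto.trans (mid := 24576) (Upto.trans (mid := 20480) (Upto.trans (mid := 18432) ((Upto.of_pow relChk30_c8 (Nat.le_refl _)) : Upto _ _ 16384 (16384 + 2 ^ 11))
    ((Upto.of_pow relChk30_c9 (Nat.le_refl _)) : Upto _ _ 18432 (18432 + 2 ^ 11)))
    (Upto.trans (mid := 22528) ((Upto.of_pow relChk30_c10 (Nat.le_refl _)) : Upto _ _ 20480 (20480 + 2 ^ 11))
    ((Upto.of_pow relChk30_c11 (Nat.le_refl _)) : Upto _ _ 22528 (22528 + 2 ^ 11))))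
    (Upto.trans (mid := 28672) (Upto.trans (mid := 26624) ((Upto.of_pow relChk30_c12 (Nat.le_refl _)) : Upto _ _ 24576 (24576 + 2 ^ 11))
    ((Upto.of_pow relChk30_c13 (Nat.le_refl _)) : Upto _ _ 26624 (26624 + 2 ^ 11)))
    (Upto.trans (mid := 30720) ((Upto.of_pow relChk30_c14 (Nat.le_refl _)) : Upto _ _ 28672 (28672 + 2 ^ 11))
    ((Upto.of_pow relChk30_c15 (Nat.le_refl _)) : Upto _ _ 30720 (30720 + 2 ^ 11))))))
    (by decide) (by decide)

theorem rel30 : ∀ u, u < 31671 → trace (wordTabs tabs [(.d, true), (.g, true), (.d, true), (.g, true)]) u = u :=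
  trace_of_fixStep (ts := [T7, T4, T7, T4]) relChk30

theorem relChk31_c0 : allPow 31671 (fixStep [T8, T4, T8, T4]) 11 0 = true := by decide +kernel
theorem relChk31_c1 : allPow 31671 (fixStep [T8, T4, T8, T4]) 11 2048 = true := by decide +kernel
theorem relChk31_c2 : allPow 31671 (fixStep [T8, T4, T8, T4]) 11 4096 = true := by decide +kernel
theorem relChk31_c3 : allPow 31671 (fixStep [T8, T4, T8, T4]) 11 6144 = true := by decide +kernel
theorem relChk31_c4 : allPow 31671 (fixStep [T8, T4, T8, T4]) 11 8192 = true := by decide +kernel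
theorem relChk31_c5 : allPow 31671 (fixStep [T8, T4, T8, T4]) 11 10240 = true := by decide +kernel
theorem relChk31_c6 : allPow 31671 (fixStep [T8, T4, T8, T4]) 11 12288 = true := by decide +kernel
theorem relChk31_c7 : allPow 31671 (fixStep [T8, T4, T8, T4]) 11 14336 = true := by decide +kernel
theorem relChk31_c8 : allPow 31671 (fixStep [T8, T4, T8, T4]) 11 16384 = true := by decide +kernel
theorem relChk31_c9 : allPow 31671 (fixStep [T8, T4, T8, T4]) 11 18432 = true := by decide +kernel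
theorem relChk31_c10 : allPow 31671 (fixStep [T8, T4, T8, T4]) 11 20480 = true := by decide +kernel
theorem relChk31_c11 : allPow 31671 (fixStep [T8, T4, T8, T4]) 11 22528 = true := by decide +kernel
theorem relChk31_c12 : allPow 31671 (fixStep [T8, T4, T8, T4]) 11 24576 = true := by decide +kernel
theorem relChk31_c13 : allPow 31671 (fixStep [T8, T4, T8, T4]) 11 26624 = true := by decide +kernel
theorem relChk31_c14 : allPow 31671 (fixStep [T8, T4, T8, T4]) 11 28672 = true := by decide +kernel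
theorem relChk31_c15 : allPow 31671 (fixStep [T8, T4, T8, T4]) 11 30720 = true := by decide +kernel
theorem relChk31 : allBelow 15 31671 (fixStep [T8, T4, T8, T4]) = true :=
  allBelow_of_upto (hi := 32768)
    (Upto.trans (mid := 16384) (Upto.trans (mid := 8192) (Upto.trans (mid := 4096) (Upto.trans (mid := 2048) ((Upto.of_pow relChk31_c0 (Nat.le_refl _)) : Upto _ _ 0 (0 + 2 ^ 11))
    ((Upto.of_pow relChk31_c1 (Nat.le_refl _)) : Upto _ _ 2048 (2048 + 2 ^ 11)))
    (Upto.trans (mid := 6144) ((Upto.of_pow relChk31_c2 (Nat.le_refl _)) : Upto _ _ 4096 (4096 + 2 ^ 11))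
    ((Upto.of_pow relChk31_c3 (Nat.le_refl _)) : Upto _ _ 6144 (6144 + 2 ^ 11))))
    (Upto.trans (mid := 12288) (Upto.trans (mid := 10240) ((Upto.of_pow relChk31_c4 (Nat.le_refl _)) : Upto _ _ 8192 (8192 + 2 ^ 11))
    ((Upto.of_pow relChk31_c5 (Nat.le_refl _)) : Upto _ _ 10240 (10240 + 2 ^ 11)))
    (Upto.trans (mid := 14336) ((Upto.of_pow relChk31_c6 (Nat.le_refl _)) : Upto _ _ 12288 (12288 + 2 ^ 11))
    ((Upto.of_pow relChk31_c7 (Nat.le_refl _)) : Upto _ _ 14336 (14336 + 2 ^ 11)))))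
    (Upto.trans (mid := 24576) (Upto.trans (mid := 20480) (Upto.trans (mid := 18432) ((Upto.of_pow relChk31_c8 (Nat.le_refl _)) : Upto _ _ 16384 (16384 + 2 ^ 11))
    ((Upto.of_pow relChk31_c9 (Nat.le_refl _)) : Upto _ _ 18432 (18432 + 2 ^ 11)))
    (Upto.trans (mid := 22528) ((Upto.of_pow relChk31_c10 (Nat.le_refl _)) : Upto _ _ 20480 (20480 + 2 ^ 11))
    ((Upto.of_pow relChk31_c11 (Nat.le_refl _)) : Upto _ _ 22528 (22528 + 2 ^ 11))))
    (Upto.trans (mid := 28672) (Upto.trans (mid := 26624) ((Upto.of_pow relChk31_c12 (Nat.le_refl _)) : Upto _ _ 24576 (24576 + 2 ^ 11))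
    ((Upto.of_pow relChk31_c13 (Nat.le_refl _)) : Upto _ _ 26624 (26624 + 2 ^ 11)))
    (Upto.trans (mid := 30720) ((Upto.of_pow relChk31_c14 (Nat.le_refl _)) : Upto _ _ 28672 (28672 + 2 ^ 11))
    ((Upto.of_pow relChk31_c15 (Nat.le_refl _)) : Upto _ _ 30720 (30720 + 2 ^ 11))))))
    (by decide) (by decide)

theorem rel31 : ∀ u, u < 31671 → trace (wordTabs tabs [(.d, true), (.j, true), (.d, true), (.j, true)]) u = u :=
  trace_of_fixStep (ts := [T8, T4, T8, T4]) relChk31

end CfsgLib.SporRecognition.Cert.Fi23X
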